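import Mathlib

/-! Automorphisms of Weierstrass cubics are unramified. -/

universe u

namespace WeierIsom

open WeierstrassCurve IsLocalRing

variable {T : Type u} [CommRing T] [IsLocalRing T]

theorem mul_zero' (hn : ∀ x ∈ maximalIdeal T, ∀ y ∈ maximalIdeal T, x * y = 0) {x y : T}
    (hx : x ∈ maximalIdeal T) (hy : y ∈ maximalIdeal T) : x * y = 0 := hn x hx y hy

theorem mem_of_map_eq_one {C : VariableChange T} (h : C.map (residue T) = 1) :
    (C.u : T) - 1 ∈ maximalIdeal T ∧ C.r ∈ maximalIdeal T ∧ C.s ∈ maximalIdeal T ∧ C.t ∈ maximalIdeal T := by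
  refine ⟨?_, ?_, ?_, ?_⟩ <;> rw [← residue_eq_zero_iff]
  · have := congrArg (fun D : VariableChange (ResidueField T) => (D.u : ResidueField T)) h
    simp only [VariableChange.map, VariableChange.one_def, Units.coe_map, Units.val_one] at this
    rw [map_sub, map_one, sub_eq_zero]
    exact this
  · exact congrArg VariableChange.r h
  · exact congrArg VariableChange.s h
  · exact congrArg VariableChange.t h

/-- The five equations of an automorphism, with denominators cleared. -/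
theorem equations {W : WeierstrassCurve T} {C : VariableChange T} (h : C • W = W) :
    (C.u : T) * W.a₁ = W.a₁ + 2 * C.s ∧
    (C.u : T) ^ 2 * W.a₂ = W.a₂ - C.s * W.a₁ + 3 * C.r - C.s ^ 2 ∧
    (C.u : T) ^ 3 * W.a₃ = W.a₃ + C.r * W.a₁ + 2 * C.t ∧
    (C.u : T) ^ 4 * W.a₄ = W.a₄ - C.s * W.a₃ + 2 * C.r * W.a₂ - (C.t + C.r * C.s) * W.a₁ + 3 * C.r ^ 2
      - 2 * C.s * C.t ∧
    (C.u : T) ^ 6 * W.a₆ = W.a₆ + C.r * W.a₄ + C.r ^ 2 * W.a₂ + C.r ^ 3 - C.t * W.a₃ - C.t ^ 2
      - C.r * C.t * W.a₁ := by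
  have key : ∀ (k : ℕ) (x y : T), ((C.u⁻¹ : Tˣ) : T) ^ k * y = x → (C.u : T) ^ k * x = y := by
    intro k x y hxy
    rw [← hxy, ← mul_assoc, ← mul_pow, Units.mul_inv, one_pow, one_mul]
  refine ⟨?_, ?_, ?_, ?_, ?_⟩
  · have := key 1 (W.a₁) (W.a₁ + 2 * C.s) (by rw [pow_one]; exact congrArg WeierstrassCurve.a₁ h)
    rwa [pow_one] at this
  · exact key 2 _ _ (congrArg WeierstrassCurve.a₂ h)
  · exact key 3 _ _ (congrArg WeierstrassCurve.a₃ h)
  · exact key 4 _ _ (congrArg WeierstrassCurve.a₄ h)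
  · exact key 6 _ _ (congrArg WeierstrassCurve.a₆ h)

/-- An automorphism congruent to the identity is the identity. -/
theorem eq_one (hn : ∀ x ∈ maximalIdeal T, ∀ y ∈ maximalIdeal T, x * y = 0)
    (W : WeierstrassCurve T) (hΔ : IsUnit W.Δ) (C : VariableChange T) (hC : C • W = W)
    (h1 : C.map (residue T) = 1) : C = 1 := by
  have conj : ∀ E : VariableChange T, (E * C * E⁻¹) • (E • W) = E • W ∧
      (E * C * E⁻¹).map (residue T) = 1 := fun E => by
    constructor
    · rw [mul_smul, mul_smul, inv_smul_smul, hC]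
    · have : VariableChange.mapHom (residue T) (E * C * E⁻¹) = 1 := by
        rw [map_mul, map_mul, show VariableChange.mapHom (residue T) C = 1 from h1, mul_one, ← map_mul,
          mul_inv_cancel, map_one]
      exact this
  have unit_of : ∀ x : T, x ∉ maximalIdeal T → IsUnit x := fun x hx => by
    rw [mem_maximalIdeal, mem_nonunits_iff, not_not] at hx; exact hx
  have hΔn : W.Δ ∉ maximalIdeal T := fun h => (maximalIdeal.isMaximal T).ne_top
    (Ideal.eq_top_of_isUnit_mem _ h hΔ)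
  have ext_one : ∀ D : VariableChange T, (D.u : T) - 1 = 0 → D.r = 0 → D.s = 0 → D.t = 0 → D = 1 := by
    intro D hu hr hs ht
    ext
    · rw [VariableChange.one_def]; simpa [sub_eq_zero] using hu
    · exact hr
    · exact hs
    · exact ht
  by_cases h2 : (2 : T) ∈ maximalIdeal T
  · obtain ⟨ha, hr, hs, ht⟩ := mem_of_map_eq_one h1
    obtain ⟨e1, e2, e3, e4, e6⟩ := equations hC
    set a := (C.u : T) - 1 with hadef
    rw [show (C.u : T) = 1 + a by rw [hadef]; ring] at e1 e2 e3 e4 e6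
    have z := fun {x y : T} => mul_zero' hn (x := x) (y := y)
    have haa := z ha ha
    have E1 : a * W.a₁ = 0 := by linear_combination e1 + z h2 hs
    have E2 : C.r = C.s * W.a₁ := by
      linear_combination -e2 + W.a₂ * z h2 ha + W.a₂ * haa + z hs hs - z h2 hr
    have E3 : a * W.a₃ = C.r * W.a₁ := by
      linear_combination e3 - W.a₃ * (3 + a) * haa + z h2 ht - W.a₃ * z h2 ha
    have E4 : C.s * W.a₃ + C.t * W.a₁ = 0 := by
      linear_combination e4 - W.a₄ * (6 + 4 * a + a ^ 2) * haa - 2 * W.a₄ * z h2 ha + W.a₂ * z h2 hr -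
        W.a₁ * z hr hs + 3 * z hr hr - 2 * z hs ht
    have E6 : C.r * W.a₄ - C.t * W.a₃ = 0 := by
      linear_combination -e6 + W.a₆ * (15 + 20 * a + 15 * a ^ 2 + 6 * a ^ 3 + a ^ 4) * haa +
        3 * W.a₆ * z h2 ha - W.a₂ * z hr hr - C.r * z hr hr + z ht ht + W.a₁ * z hr ht
    by_cases ha1 : W.a₁ ∈ maximalIdeal T
    · have hr0 : C.r = 0 := E2.trans (z hs ha1)
      have ha3 : IsUnit W.a₃ := unit_of _ fun ha3 => hΔn (by
        have : W.Δ = W.a₁ * (-(W.a₁ * W.b₂ * W.b₈ + 0)) + 2 * (-2 * W.a₂ * W.b₂ * W.b₈ - 4 * W.b₄ ^ 3) +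
            W.b₆ * (-27 * W.b₆ + 9 * W.b₂ * W.b₄) := by
          simp only [Δ, b₂]; ring
        rw [this]
        refine add_mem (add_mem (Ideal.mul_mem_right _ _ ha1) (Ideal.mul_mem_right _ _ h2)) (Ideal.mul_mem_right _ _ ?_)
        rw [b₆]
        refine add_mem (Ideal.pow_mem_of_mem _ ha3 2 (by norm_num)) ?_
        rw [show (4 : T) * W.a₆ = 2 * (2 * W.a₆) by ring]
        exact Ideal.mul_mem_right _ _ h2)
      refine ext_one C ?_ hr0 ?_ ?_
      · rw [z hr ha1] at E3; exact ha3.mul_left_eq_zero.mp E3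
      · rw [z ht ha1, add_zero] at E4; exact ha3.mul_left_eq_zero.mp E4
      · rw [hr0, zero_mul, zero_sub, neg_eq_zero] at E6; exact ha3.mul_left_eq_zero.mp E6
    · have hu1 := unit_of _ ha1
      have ha0 : a = 0 := hu1.mul_left_eq_zero.mp E1
      rw [ha0, zero_mul, eq_comm, hu1.mul_left_eq_zero] at E3
      rw [E3, eq_comm, hu1.mul_left_eq_zero] at E2
      rw [E2, zero_mul, zero_add, hu1.mul_left_eq_zero] at E4
      exact ext_one C ha0 E3 E2 E4
  obtain ⟨i, hi⟩ := (unit_of _ h2).exists_right_inv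
  let E₁ : VariableChange T := ⟨1, 0, -(i * W.a₁), -(i * W.a₃)⟩
  suffices H : ∀ (V : WeierstrassCurve T) (D : VariableChange T), V.a₁ = 0 → V.a₃ = 0 → IsUnit V.Δ →
      D • V = V → D.map (residue T) = 1 → D = 1 by
    have := H (E₁ • W) (E₁ * C * E₁⁻¹)
      (by simp only [E₁, variableChange_a₁, inv_one, Units.val_one]; linear_combination -W.a₁ * hi)
      (by simp only [E₁, variableChange_a₃, inv_one, Units.val_one]; linear_combination -W.a₃ * hi)
      (by rw [variableChange_Δ]; simpa [E₁] using hΔ) (conj E₁).1 (conj E₁).2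
    rwa [mul_inv_eq_one, mul_eq_left] at this
  clear ext_one conj
  intro V D v1 v3 hVΔ hD hD1
  obtain ⟨ha, hr, hs, ht⟩ := mem_of_map_eq_one hD1
  obtain ⟨e1, e2, e3, e4, e6⟩ := equations hD
  have z := fun {x y : T} => mul_zero' hn (x := x) (y := y)
  set a := (D.u : T) - 1 with hadef
  rw [show (D.u : T) = 1 + a by rw [hadef]; ring] at e1 e2 e3 e4 e6
  have haa := z ha ha
  rw [v1] at e1 e2 e3 e4 e6
  rw [v3] at e3 e4 e6
  have hu2 := unit_of _ h2
  have s0 : D.s = 0 := hu2.mul_right_eq_zero.mp (by linear_combination -e1)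
  have t0 : D.t = 0 := hu2.mul_right_eq_zero.mp (by linear_combination -e3)
  have E2 : 2 * a * V.a₂ = 3 * D.r := by
    linear_combination e2 - V.a₂ * haa - z hs hs
  have E4 : 4 * a * V.a₄ = 2 * D.r * V.a₂ := by
    linear_combination e4 - V.a₄ * (6 + 4 * a + a ^ 2) * haa + 3 * z hr hr - 2 * z hs ht
  have E6 : 6 * a * V.a₆ = D.r * V.a₄ := by
    linear_combination e6 - V.a₆ * (15 + 20 * a + 15 * a ^ 2 + 6 * a ^ 3 + a ^ 4) * haa +
      (V.a₂ + D.r) * z hr hr - z ht ht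
  have key : a = 0 ∧ D.r = 0 := by
    have hVn : V.Δ ∉ maximalIdeal T := fun h => (maximalIdeal.isMaximal T).ne_top
      (Ideal.eq_top_of_isUnit_mem _ h hVΔ)
    have hΔeq : V.Δ = -16 * (4 * V.a₂ ^ 3 * V.a₆ - V.a₂ ^ 2 * V.a₄ ^ 2 + 4 * V.a₄ ^ 3 -
        18 * V.a₂ * V.a₄ * V.a₆ + 27 * V.a₆ ^ 2) := by
      simp only [Δ, b₂, b₄, b₆, b₈, v1, v3]; ring
    by_cases h3 : (3 : T) ∈ maximalIdeal T
    · have F2 : a * V.a₂ = 0 := hu2.mul_right_eq_zero.mp (by linear_combination E2 + z h3 hr)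
      have F4 : a * V.a₄ = 2 * D.r * V.a₂ := by linear_combination E4 - V.a₄ * z h3 ha
      have F6 : D.r * V.a₄ = 0 := by linear_combination -E6 + 2 * V.a₆ * z h3 ha
      by_cases h2a : V.a₂ ∈ maximalIdeal T
      · have hu4 : IsUnit V.a₄ := unit_of _ fun h4 => hVn (by
          rw [show V.Δ = V.a₂ * (-16 * (4 * V.a₂ ^ 2 * V.a₆ - V.a₂ * V.a₄ ^ 2 - 18 * V.a₄ * V.a₆)) +
            V.a₄ * (-16 * 4 * V.a₄ ^ 2) + 3 * (-16 * 9 * V.a₆ ^ 2) by rw [hΔeq]; ring]
          exact add_mem (add_mem (Ideal.mul_mem_right _ _ h2a) (Ideal.mul_mem_right _ _ h4))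
            (Ideal.mul_mem_right _ _ h3))
        rw [mul_assoc, z hr h2a, mul_zero] at F4
        exact ⟨hu4.mul_left_eq_zero.mp F4, hu4.mul_left_eq_zero.mp F6⟩
      · have hu := unit_of _ h2a
        have a0 := hu.mul_left_eq_zero.mp F2
        rw [a0, zero_mul] at F4
        exact ⟨a0, (hu2.mul hu).mul_left_eq_zero.mp (by linear_combination -F4)⟩
    · have hu3 := unit_of _ h3
      have hra : D.r * a = 0 := z hr ha
      obtain ⟨j, hj⟩ := hu3.exists_right_inv
      have hr' : D.r = j * (2 * a * V.a₂) := by linear_combination -j * E2 - D.r * hj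
      have G4 : a * (4 * (3 * V.a₄ - V.a₂ ^ 2)) = 0 := by
        linear_combination 3 * E4 - 2 * V.a₂ * E2
      have G6 : a * (2 * (9 * V.a₆ - V.a₂ * V.a₄)) = 0 := by
        linear_combination 3 * E6 - V.a₄ * E2
      have hz : (27 * V.Δ) * a = 0 := by
        rw [hΔeq]
        linear_combination (-16 * (3 * V.a₄ - V.a₂ ^ 2) ^ 2 +
            8 * V.a₂ * (2 * V.a₂ ^ 3 - 9 * V.a₂ * V.a₄ + 27 * V.a₆)) * G4 -
          24 * (2 * V.a₂ ^ 3 - 9 * V.a₂ * V.a₄ + 27 * V.a₆) * G6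
      have a0 : a = 0 := (((by
        rw [show (27 : T) = 3 * 3 * 3 by norm_num]; exact (hu3.mul hu3).mul hu3) : IsUnit (27 : T)).mul hVΔ).mul_right_eq_zero.mp hz
      exact ⟨a0, by rw [hr', a0]; ring⟩
  ext
  · rw [VariableChange.one_def]; simpa [hadef, sub_eq_zero] using key.1
  · exact key.2
  · exact s0
  · exact t0

end WeierIsom
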