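import Mathlib
import Groth.Agent.GalCompleteLib.Main
import Groth.Agent.WeierIsomLib.Rigid

/-! Weierstrass cubics with the same `j` over a complete local domain with algebraically closed residue field. -/

universe u

namespace WeierIsom

open WeierstrassCurve IsLocalRing Polynomial

theorem henselianLocalRing_of_complete (R : Type u) [CommRing R] [IsLocalRing R]
    [IsAdicComplete (maximalIdeal R) R] : HenselianLocalRing R :=
  { is_henselian := fun f hf a₀ h₁ h₂ =>
      HenselianRing.is_henselian (I := maximalIdeal R) f hf a₀ h₁ (h₂.map _) }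

section Integral

variable {R K : Type u} [CommRing R] [Field K] [Algebra R K]

theorem mem_closure_of_root {x : K} {f : (integralClosure R K)[X]} (hf : f.Monic) (hx : aeval x f = 0) :
    x ∈ integralClosure R K :=
  isIntegral_trans (A := integralClosure R K) x ⟨f, hf, hx⟩

theorem variableChange_integral {W W' : WeierstrassCurve R} (hΔ' : IsUnit W'.Δ)
    (C : VariableChange K) (h : C • W.map (algebraMap R K) = W'.map (algebraMap R K)) :
    IsIntegral R (C.u : K) ∧ IsIntegral R C.r ∧ IsIntegral R C.s ∧ IsIntegral R C.t := by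
  have hinv : ∀ (k : ℕ) (x y : K), ((C.u⁻¹ : Kˣ) : K) ^ k * y = x → (C.u : K) ^ k * x = y := by
    intro k x y hxy
    rw [← hxy, ← mul_assoc, ← mul_pow, Units.mul_inv, one_pow, one_mul]
  set V := W.map (algebraMap R K) with hV
  set V' := W'.map (algebraMap R K) with hV'
  let Z := integralClosure R K
  have hmem : ∀ a : R, algebraMap R K a ∈ Z := fun a => Subalgebra.algebraMap_mem _ a
  have hu12 := hinv 12 _ _ ((variableChange_Δ V C).symm.trans (congrArg WeierstrassCurve.Δ h))
  obtain ⟨d, hd⟩ := hΔ'.exists_right_inv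
  have hu : (C.u : K) ∈ Z := by
    refine IsIntegral.of_pow (n := 12) (by norm_num) ?_
    have : (C.u : K) ^ 12 = algebraMap R K (W.Δ * d) := by
      rw [map_mul, ← map_Δ W, ← hV, ← hu12, hV', map_Δ, mul_assoc, ← map_mul, hd, map_one, mul_one]
    rw [this]; exact isIntegral_algebraMap
  have h6 := hinv 6 _ _ ((variableChange_b₆ V C).symm.trans (congrArg WeierstrassCurve.b₆ h))
  have h8 := hinv 8 _ _ ((variableChange_b₈ V C).symm.trans (congrArg WeierstrassCurve.b₈ h))
  have hb : V.b₄ ∈ Z ∧ V.b₆ ∈ Z ∧ V.b₈ ∈ Z ∧ V'.b₆ ∈ Z ∧ V'.b₈ ∈ Z := by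
    refine ⟨?_, ?_, ?_, ?_, ?_⟩ <;> simp only [hV, hV', map_b₄, map_b₆, map_b₈] <;> exact hmem _
  have hr : C.r ∈ Z := by
    have m1 : 2 * V.b₆ + (C.u : K) ^ 6 * V'.b₆ ∈ Z := add_mem (mul_mem (natCast_mem Z 2) hb.2.1) (mul_mem (pow_mem hu 6) hb.2.2.2.1)
    have m2 : (C.u : K) ^ 8 * V'.b₈ - V.b₈ ∈ Z := sub_mem (mul_mem (pow_mem hu 8) hb.2.2.2.2) hb.2.2.1
    refine mem_closure_of_root (f := X ^ 4 - Polynomial.C ⟨V.b₄, hb.1⟩ * X ^ 2 -
      Polynomial.C ⟨_, m1⟩ * X + Polynomial.C ⟨_, m2⟩) (by monicity!) ?_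
    · simp [Subalgebra.algebraMap_eq]
      linear_combination h8 - C.r * h6
  have hs : C.s ∈ Z := by
    have h2 := hinv 2 _ _ (congrArg WeierstrassCurve.a₂ h)
    have m1 : V.a₁ ∈ Z := hmem _
    have m2 : (C.u : K) ^ 2 * V'.a₂ - V.a₂ - 3 * C.r ∈ Z :=
      sub_mem (sub_mem (mul_mem (pow_mem hu 2) (hmem _)) (hmem _)) (mul_mem (natCast_mem Z 3) hr)
    refine mem_closure_of_root (f := X ^ 2 + Polynomial.C ⟨_, m1⟩ * X + Polynomial.C ⟨_, m2⟩) (by monicity!) ?_
    · simp [Subalgebra.algebraMap_eq]
      linear_combination h2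
  have ht : C.t ∈ Z := by
    have h2 := hinv 6 _ _ (congrArg WeierstrassCurve.a₆ h)
    have m1 : V.a₃ + C.r * V.a₁ ∈ Z := add_mem (hmem _) (mul_mem hr (hmem _))
    have m2 : (C.u : K) ^ 6 * V'.a₆ - V.a₆ - C.r * V.a₄ - C.r ^ 2 * V.a₂ - C.r ^ 3 ∈ Z :=
      sub_mem (sub_mem (sub_mem (sub_mem (mul_mem (pow_mem hu 6) (hmem _)) (hmem _))
        (mul_mem hr (hmem _))) (mul_mem (pow_mem hr 2) (hmem _))) (pow_mem hr 3)
    refine mem_closure_of_root (f := X ^ 2 + Polynomial.C ⟨_, m1⟩ * X + Polynomial.C ⟨_, m2⟩) (by monicity!) ?_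
    · simp [Subalgebra.algebraMap_eq]
      linear_combination h2
  exact ⟨hu, hr, hs, ht⟩

end Integral

/-- A finite local extension which is trivial modulo `m_R B + m_B ^ 2` is trivial. -/
theorem surjective_of_mod {R B : Type u} [CommRing R] [CommRing B] [IsLocalRing R] [IsLocalRing B]
    [IsNoetherianRing R] [Algebra R B] [Module.Finite R B] [IsLocalHom (algebraMap R B)]
    (hsurjJ : ∀ x : B, ∃ a : R, x - algebraMap R B a ∈ (maximalIdeal R).map (algebraMap R B) ⊔ maximalIdeal B ^ 2) :
    Function.Surjective (algebraMap R B) := by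
  haveI : IsNoetherianRing B := IsNoetherianRing.of_finite R B
  have hJ : (maximalIdeal R).map (algebraMap R B) ⊔ maximalIdeal B ^ 2 ≤ maximalIdeal B :=
    sup_le (map_maximalIdeal_le (algebraMap R B)) (Ideal.pow_le_self two_ne_zero)
  have hmB : maximalIdeal B ≤ (maximalIdeal R).map (algebraMap R B) := by
    refine Submodule.le_of_le_smul_of_le_jacobson_bot (IsNoetherian.noetherian _)
      (IsLocalRing.maximalIdeal_le_jacobson ⊥) ?_
    intro x hx
    obtain ⟨a, ha⟩ := hsurjJ x
    have ham : a ∈ maximalIdeal R := by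
      have : algebraMap R B a ∈ maximalIdeal B := by simpa using sub_mem hx (hJ ha)
      exact ((mem_maximalIdeal _).mpr fun hu => (mem_maximalIdeal _).mp this (hu.map _))
    rw [← sub_add_cancel x (algebraMap R B a), smul_eq_mul, ← pow_two]
    exact Submodule.add_mem _ ((sup_le le_sup_left (le_sup_right) :
      (maximalIdeal R).map (algebraMap R B) ⊔ maximalIdeal B ^ 2 ≤ _) ha)
      (Ideal.mem_sup_left (Ideal.mem_map_of_mem _ ham))
  have hsurj : Function.Surjective (algebraMap R B) := by
    have hle : (⊤ : Submodule R B) ≤ LinearMap.range (Algebra.linearMap R B) ⊔ maximalIdeal R • ⊤ := by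
      intro x _
      obtain ⟨a, ha⟩ := hsurjJ x
      have : x - algebraMap R B a ∈ (maximalIdeal R).map (algebraMap R B) :=
        (sup_le le_rfl ((Ideal.pow_le_self two_ne_zero).trans hmB)) ha
      rw [← add_sub_cancel (algebraMap R B a) x]
      refine add_mem (Submodule.mem_sup_left ⟨a, rfl⟩) (Submodule.mem_sup_right ?_)
      rw [Ideal.smul_top_eq_map]
      exact this
    have := Submodule.le_of_le_smul_of_le_jacobson_bot Module.Finite.fg_top
      (IsLocalRing.maximalIdeal_le_jacobson ⊥) hle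
    intro x
    exact this trivial
  exact hsurj

set_option maxHeartbeats 1000000 in
theorem main (R : Type u) [CommRing R] [IsDomain R] [IsNoetherianRing R] [IsLocalRing R]
    [IsAdicComplete (maximalIdeal R) R] [IsAlgClosed (ResidueField R)]
    (W₁ W₂ : WeierstrassCurve R) [W₁.IsElliptic] [W₂.IsElliptic] (hj : W₁.j = W₂.j) :
    ∃ C : VariableChange R, C • W₁ = W₂ := by
  classical
  haveI := henselianLocalRing_of_complete R
  let K := AlgebraicClosure (FractionRing R)
  have hRK : Function.Injective (algebraMap R K) := by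
    rw [IsScalarTower.algebraMap_eq R (FractionRing R) K]
    exact (algebraMap (FractionRing R) K).injective.comp (IsFractionRing.injective R (FractionRing R))
  obtain ⟨C, hC⟩ := WeierstrassCurve.exists_variableChange_of_j_eq (W₁.map (algebraMap R K))
    (W₂.map (algebraMap R K)) (by rw [map_j, map_j, hj])
  obtain ⟨hu, hr, hs, ht⟩ := variableChange_integral W₂.isUnit_Δ C hC
  let B : Subalgebra R K := Algebra.adjoin R {(C.u : K), C.r, C.s, C.t}
  haveI : Module.Finite R B := Module.Finite.iff_fg.mpr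
    (fg_adjoin_of_finite (Set.toFinite _) (by
      rintro x (rfl | rfl | rfl | rfl) <;> assumption))
  haveI : IsLocalRing B := GalCompleteLib.isLocalRing_of_finite_domain (R := R) B
  have hmemB : ∀ x ∈ ({(C.u : K), C.r, C.s, C.t} : Set K), x ∈ B := fun x hx => Algebra.subset_adjoin hx
  let uB : B := ⟨C.u, hmemB _ (by simp)⟩
  have hu12 : (C.u : K) ^ 12 * algebraMap R K W₂.Δ = algebraMap R K W₁.Δ := by
    rw [← map_Δ W₂, ← hC, variableChange_Δ, ← mul_assoc, ← mul_pow, Units.mul_inv, one_pow, one_mul, map_Δ]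
  have huB : IsUnit uB := by
    obtain ⟨d, hd⟩ := W₁.isUnit_Δ.exists_right_inv
    refine IsUnit.of_mul_eq_one (uB ^ 11 * algebraMap R B (W₂.Δ * d)) (Subtype.ext ?_)
    show (C.u : K) * ((C.u : K) ^ 11 * algebraMap R K (W₂.Δ * d)) = 1
    rw [← mul_assoc, ← pow_succ', map_mul, ← mul_assoc, hu12, ← map_mul, hd, map_one]
  let C' : VariableChange B := ⟨huB.unit, ⟨C.r, hmemB _ (by simp)⟩, ⟨C.s, hmemB _ (by simp)⟩, ⟨C.t, hmemB _ (by simp)⟩⟩
  have hC'map : C'.map (B.val.toRingHom) = C := by
    ext <;> rfl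
  have hC' : C' • W₁.map (algebraMap R B) = W₂.map (algebraMap R B) := by
    refine WeierstrassCurve.map_injective (f := B.val.toRingHom) Subtype.val_injective ?_
    show (C' • W₁.map (algebraMap R B)).map _ = (W₂.map (algebraMap R B)).map _
    rw [← map_variableChange, hC'map, WeierstrassCurve.map_map, WeierstrassCurve.map_map]
    exact hC
  -- residue field of `B`
  haveI : FaithfulSMul R B := (faithfulSMul_iff_algebraMap_injective R B).mpr
    fun x y h => hRK (congrArg (fun z : B => (z : K)) h)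
  haveI : IsLocalHom (algebraMap R B) := inferInstance
  haveI : Module.Finite (ResidueField R) (ResidueField B) := inferInstance
  have hbij : Function.Bijective (algebraMap (ResidueField R) (ResidueField B)) :=
    IsAlgClosed.algebraMap_bijective_of_isIntegral
  have hlift : ∀ x : B, ∃ a : R, x - algebraMap R B a ∈ maximalIdeal B := by
    intro x
    obtain ⟨y, hy⟩ := hbij.2 (residue B x)
    obtain ⟨a, rfl⟩ := residue_surjective y
    refine ⟨a, (residue_eq_zero_iff _).mp ?_⟩
    rw [map_sub, ← hy, sub_eq_zero]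
    rfl
  -- constants
  obtain ⟨u₀, hu₀⟩ := hlift uB
  obtain ⟨r₀, hr₀⟩ := hlift C'.r
  obtain ⟨s₀, hs₀⟩ := hlift C'.s
  obtain ⟨t₀, ht₀⟩ := hlift C'.t
  have hu₀u : IsUnit u₀ := by
    refine isUnit_of_map_unit (algebraMap R B) u₀ ?_
    by_contra hnu
    have := add_mem ((mem_maximalIdeal _).mpr hnu) hu₀
    rw [add_sub_cancel] at this
    exact (maximalIdeal.isMaximal B).ne_top (Ideal.eq_top_of_isUnit_mem _ this huB)
  let C₀ : VariableChange R := ⟨hu₀u.unit, r₀, s₀, t₀⟩
  let J : Ideal B := (maximalIdeal R).map (algebraMap R B) ⊔ maximalIdeal B ^ 2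
  have hJ : J ≤ maximalIdeal B := sup_le
    (map_maximalIdeal_le (algebraMap R B)) (Ideal.pow_le_self two_ne_zero)
  haveI : Nontrivial (B ⧸ J) := Ideal.Quotient.nontrivial_iff.mpr fun h =>
    (maximalIdeal.isMaximal B).ne_top (top_le_iff.mp (h ▸ hJ))
  let T := B ⧸ J
  let π : B →+* T := Ideal.Quotient.mk J
  haveI : IsLocalRing T := .of_surjective' π Ideal.Quotient.mk_surjective
  have hT : ∀ x ∈ maximalIdeal T, ∀ y ∈ maximalIdeal T, x * y = 0 := by
    intro x hx y hy
    obtain ⟨x, rfl⟩ := Ideal.Quotient.mk_surjective x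
    obtain ⟨y, rfl⟩ := Ideal.Quotient.mk_surjective y
    have key : ∀ z : B, Ideal.Quotient.mk J z ∈ maximalIdeal T → z ∈ maximalIdeal B := fun z hz hu =>
      (mem_maximalIdeal _).mp hz (hu.map _)
    rw [← map_mul, Ideal.Quotient.eq_zero_iff_mem]
    exact Ideal.mem_sup_right (by rw [pow_two]; exact Ideal.mul_mem_mul (key x hx) (key y hy))
  have hR : ∀ z : B, z ∈ maximalIdeal B → residue T (π z) = 0 := fun z hz => by
    rw [residue_eq_zero_iff]
    intro hu
    obtain ⟨w, hw⟩ := hu.exists_right_inv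
    obtain ⟨w, rfl⟩ := Ideal.Quotient.mk_surjective w
    have : z * w - 1 ∈ J := by rw [← Ideal.Quotient.eq_zero_iff_mem, map_sub, map_mul, map_one]; exact sub_eq_zero.mpr hw
    have h1 : (1 : B) ∈ maximalIdeal B := by
      have := sub_mem (Ideal.mul_mem_right w _ hz) (hJ this)
      rwa [sub_sub_cancel] at this
    exact (maximalIdeal.isMaximal B).ne_top ((Ideal.eq_top_iff_one _).mpr h1)
  let f : R →+* T := π.comp (algebraMap R B)
  have hf : ∀ a ∈ maximalIdeal R, f a = 0 := fun a ha =>
    Ideal.Quotient.eq_zero_iff_mem.mpr (Ideal.mem_sup_left (Ideal.mem_map_of_mem _ ha))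
  -- `C'` and `C₀` have the same image in the residue field
  have hsame : (C'.map π).map (residue T) = (C₀.map f).map (residue T) := by
    have e : ∀ (z : B) (a : R), z - algebraMap R B a ∈ maximalIdeal B → residue T (π z) = residue T (f a) := by
      intro z a h
      have := hR _ h
      rwa [map_sub, map_sub, sub_eq_zero] at this
    ext
    · exact e _ _ hu₀
    · exact e _ _ hr₀
    · exact e _ _ hs₀
    · exact e _ _ ht₀
  -- `C₀` carries `W₁` to `W₂` modulo the maximal ideal
  have hC₀ : (C₀.map f) • W₁.map f = W₂.map f := by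
    have h1 : ((C₀.map f).map (residue T)) • (W₁.map f).map (residue T) = (W₂.map f).map (residue T) := by
      rw [← hsame, map_variableChange]
      rw [show W₁.map f = (W₁.map (algebraMap R B)).map π from (WeierstrassCurve.map_map _ _ _).symm,
        map_variableChange, hC']
      rfl
    rw [map_variableChange] at h1
    have key : ∀ a b : R, residue T (f a) = residue T (f b) → f a = f b := fun a b hab => by
      refine sub_eq_zero.mp ?_
      rw [← map_sub]
      refine hf _ ?_
      by_contra hn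
      have hu : IsUnit (a - b) := by rwa [mem_maximalIdeal, mem_nonunits_iff, not_not] at hn
      exact (hu.map ((residue T).comp f)).ne_zero (by simp [hab])
    rw [map_variableChange] at h1 ⊢
    ext
    · exact key _ _ (congrArg WeierstrassCurve.a₁ h1)
    · exact key _ _ (congrArg WeierstrassCurve.a₂ h1)
    · exact key _ _ (congrArg WeierstrassCurve.a₃ h1)
    · exact key _ _ (congrArg WeierstrassCurve.a₄ h1)
    · exact key _ _ (congrArg WeierstrassCurve.a₆ h1)
  have hrig : (C₀.map f)⁻¹ * C'.map π = 1 := by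
    refine eq_one hT (W₁.map f) (by rw [map_Δ]; exact W₁.isUnit_Δ.map f) _ ?_ ?_
    · rw [mul_smul]
      have : (C'.map π) • W₁.map f = W₂.map f := by
        rw [show W₁.map f = (W₁.map (algebraMap R B)).map π from (WeierstrassCurve.map_map _ _ _).symm,
          map_variableChange, hC']
        rfl
      rw [this, ← hC₀, inv_smul_smul]
    · show VariableChange.mapHom (residue T) ((C₀.map f)⁻¹ * C'.map π) = 1
      rw [map_mul, map_inv, inv_mul_eq_one]
      exact hsame.symm
  rw [inv_mul_eq_one] at hrig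
  -- the generators are constants modulo `J`
  have hsurjJ : ∀ x : B, ∃ a : R, x - algebraMap R B a ∈ J := by
    have hgen : ∀ (z : B) (a : R), π z = f a → ∃ a : R, z - algebraMap R B a ∈ J := fun z a h => by
      refine ⟨a, ?_⟩
      rw [← Ideal.Quotient.eq_zero_iff_mem, map_sub]
      exact sub_eq_zero.mpr h
    intro ⟨x, hx⟩
    induction hx using Algebra.adjoin_induction with
    | mem y hy =>
      rcases hy with rfl | rfl | rfl | rfl
      · exact hgen uB u₀ (congrArg (fun D : VariableChange T => (D.u : T)) hrig).symm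
      · exact hgen C'.r r₀ (congrArg VariableChange.r hrig).symm
      · exact hgen C'.s s₀ (congrArg VariableChange.s hrig).symm
      · exact hgen C'.t t₀ (congrArg VariableChange.t hrig).symm
    | algebraMap a => exact ⟨a, by rw [show (⟨algebraMap R K a, _⟩ : B) = algebraMap R B a from rfl, sub_self]; exact J.zero_mem⟩
    | add y z hy hz ihy ihz =>
      obtain ⟨a, ha⟩ := ihy; obtain ⟨b, hb⟩ := ihz
      refine ⟨a + b, ?_⟩
      have := add_mem ha hb
      rwa [show (⟨y, hy⟩ : B) - algebraMap R B a + (⟨z, hz⟩ - algebraMap R B b) =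
        ⟨y + z, add_mem hy hz⟩ - algebraMap R B (a + b) by rw [map_add]; exact Subtype.ext (by push_cast; ring)] at this
    | mul y z hy hz ihy ihz =>
      obtain ⟨a, ha⟩ := ihy; obtain ⟨b, hb⟩ := ihz
      refine ⟨a * b, ?_⟩
      have := add_mem (J.mul_mem_right ⟨z, hz⟩ ha) (J.mul_mem_left (algebraMap R B a) hb)
      rwa [show ((⟨y, hy⟩ : B) - algebraMap R B a) * ⟨z, hz⟩ + algebraMap R B a * (⟨z, hz⟩ - algebraMap R B b) =
        ⟨y * z, mul_mem hy hz⟩ - algebraMap R B (a * b) by rw [map_mul]; exact Subtype.ext (by push_cast; ring)] at this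
  have hsurj : Function.Surjective (algebraMap R B) := surjective_of_mod (B := B) hsurjJ
  have hinj : Function.Injective (algebraMap R B) := fun x y h => hRK (congrArg (fun z : B => (z : K)) h)
  let e : R ≃+* B := RingEquiv.ofBijective _ ⟨hinj, hsurj⟩
  refine ⟨C'.map (e.symm : B →+* R), ?_⟩
  have := congrArg (fun V : WeierstrassCurve B => V.map (e.symm : B →+* R)) hC'
  simp only [← map_variableChange, WeierstrassCurve.map_map] at this
  have hid : (e.symm : B →+* R).comp (algebraMap R B) = RingHom.id R := RingHom.ext fun a => e.symm_apply_apply a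
  rwa [hid, WeierstrassCurve.map_id, WeierstrassCurve.map_id] at this

end WeierIsom
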