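import Mathlib

/-! Weierstrass cubics with the same `j`, away from `0` and `1728`, are étale locally isomorphic. -/

universe u

namespace WeierIsom

open WeierstrassCurve Polynomial

variable {A : Type u} [CommRing A]

/-- Some property holds after an étale neighbourhood of `p`. -/
def Nbhd (p : Ideal A) (P : ∀ (B : Type u) [CommRing B] [Algebra A B], Ideal B → Prop) : Prop :=
  ∃ (B : Type u) (_ : CommRing B) (_ : Algebra A B) (q : Ideal B),
    q.IsPrime ∧ Algebra.Etale A B ∧ q.comap (algebraMap A B) = p ∧ P B q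

theorem Nbhd.bind {p : Ideal A}
    {P : ∀ (B : Type u) [CommRing B] [Algebra A B], Ideal B → Prop}
    {Q : ∀ (B : Type u) [CommRing B] [Algebra A B], Ideal B → Prop}
    (h : Nbhd p P)
    (hPQ : ∀ (B : Type u) [CommRing B] [Algebra A B] (q : Ideal B) [q.IsPrime],
      q.comap (algebraMap A B) = p → P B q →
      Nbhd (A := B) q (fun C _ _ r => ∀ [Algebra A C] [IsScalarTower A B C], Q C r)) :
    Nbhd p Q := by
  obtain ⟨B, _, _, q, hq, hB, hqp, hP⟩ := h
  obtain ⟨C, iC, iBC, r, hr, hC, hrq, hQ⟩ := hPQ B q hqp hP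
  letI : Algebra A C := ((algebraMap B C).comp (algebraMap A B)).toAlgebra
  haveI : IsScalarTower A B C := IsScalarTower.of_algebraMap_eq fun _ => rfl
  refine ⟨C, iC, inferInstance, r, hr, Algebra.Etale.comp A B C, ?_, hQ⟩
  rw [IsScalarTower.algebraMap_eq A B C, ← Ideal.comap_comap, hrq, hqp]

theorem Nbhd.pure {p : Ideal A} [p.IsPrime]
    {P : ∀ (B : Type u) [CommRing B] [Algebra A B], Ideal B → Prop} (h : P A p) : Nbhd p P := by
  refine ⟨A, inferInstance, inferInstance, p, inferInstance, ?_, ?_, h⟩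
  · infer_instance
  · rw [Algebra.algebraMap_self, Ideal.comap_id]

/-- An element outside `p` becomes a unit nearby. -/
theorem nbhd_away {p : Ideal A} [p.IsPrime] {g : A} (hg : g ∉ p) :
    Nbhd p (fun B _ _ _ => IsUnit (algebraMap A B g)) := by
  refine ⟨Localization.Away g, inferInstance, inferInstance, p.map (algebraMap A _), ?_,
    Algebra.Etale.of_isLocalizationAway g, ?_, IsLocalization.Away.algebraMap_isUnit g⟩
  · exact IsLocalization.isPrime_of_isPrime_disjoint (Submonoid.powers g) _ p inferInstance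
      ((Ideal.disjoint_powers_iff_notMem g (Ideal.IsPrime.isRadical inferInstance)).mpr hg)
  · exact IsLocalization.comap_map_of_isPrime_disjoint (Submonoid.powers g) _ inferInstance
      ((Ideal.disjoint_powers_iff_notMem g (Ideal.IsPrime.isRadical inferInstance)).mpr hg)

/-- A simple root over the residue field lifts to an étale neighbourhood. -/
theorem nbhd_root {p : Ideal A} {f h : A[X]} (hf : f.Monic) {K : Type u} [Field K] (φ : A →+* K)
    (hφ : RingHom.ker φ = p) (x : K) (hx : f.eval₂ φ x = 0) (hx' : (derivative f).eval₂ φ x ≠ 0)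
    (hxh : h.eval₂ φ x ≠ 0) :
    Nbhd p (fun B _ _ _ => ∃ z : B, aeval z f = 0 ∧ IsUnit (aeval z (derivative f)) ∧ IsUnit (aeval z h)) := by
  let S : StandardEtalePair A := ⟨f, hf, h * derivative f, h, 0, 1, by ring⟩
  letI : Algebra A K := φ.toAlgebra
  have hmap : S.HasMap x := by
    refine ⟨hx, ?_⟩
    rw [map_mul, isUnit_iff_ne_zero]
    exact mul_ne_zero hxh hx'
  let L := S.lift x hmap
  refine ⟨S.Ring, inferInstance, inferInstance, RingHom.ker L.toRingHom, RingHom.ker_isPrime _,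
    inferInstance, ?_, S.X, S.hasMap_X.1, ?_, ?_⟩
  · rw [RingHom.comap_ker, ← hφ]
    exact congrArg _ L.comp_algebraMap
  all_goals
    have := S.hasMap_X.2
    rw [map_mul, IsUnit.mul_iff] at this
  · exact this.2
  · exact this.1

/-- Normal forms in residue characteristic `2`, `3` and otherwise. -/
def N2 {B : Type u} [CommRing B] (W : WeierstrassCurve B) : Prop :=
  W.a₁ = 1 ∧ W.a₂ = 0 ∧ W.a₃ = 0 ∧ W.a₄ = 0

/-- Normal form when `2` is invertible and `3` is not. -/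
def N3 {B : Type u} [CommRing B] (W : WeierstrassCurve B) : Prop :=
  W.a₁ = 0 ∧ W.a₂ = 1 ∧ W.a₃ = 0 ∧ W.a₄ = 0

/-- Normal form when `2` and `3` are invertible. -/
def N0 {B : Type u} [CommRing B] (W : WeierstrassCurve B) : Prop :=
  W.a₁ = 0 ∧ W.a₂ = 0 ∧ W.a₃ = 0 ∧ W.a₄ = W.a₆

/-- `W` has the normal form `N` after a change of variables on a neighbourhood. -/
def Norm (N : ∀ {B : Type u} [CommRing B], WeierstrassCurve B → Prop) (p : Ideal A)
    (W : WeierstrassCurve A) : Prop :=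
  Nbhd p (fun B _ _ _ => ∃ C : VariableChange B, N (C • W.map (algebraMap A B)))

variable {N : ∀ {B : Type u} [CommRing B], WeierstrassCurve B → Prop}

theorem Norm.of_nf {p : Ideal A} [p.IsPrime] {W : WeierstrassCurve A} (C : VariableChange A) (h : N (C • W)) :
    Norm N p W := by
  refine Nbhd.pure ⟨C, ?_⟩
  rwa [Algebra.algebraMap_self, WeierstrassCurve.map_id]

theorem Norm.change {p : Ideal A} {W : WeierstrassCurve A} (C : VariableChange A) (h : Norm N p (C • W)) :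
    Norm N p W := by
  obtain ⟨B, _, _, q, hq, hB, hqp, C', hC'⟩ := h
  refine ⟨B, inferInstance, inferInstance, q, hq, hB, hqp, C' * C.map (algebraMap A B), ?_⟩
  rwa [mul_smul, WeierstrassCurve.map_variableChange]

theorem Norm.ext {p : Ideal A} {W : WeierstrassCurve A}
    {P : ∀ (B : Type u) [CommRing B] [Algebra A B], Ideal B → Prop} (h : Nbhd p P)
    (hP : ∀ (B : Type u) [CommRing B] [Algebra A B] (q : Ideal B) [q.IsPrime],
      q.comap (algebraMap A B) = p → P B q → Norm N q (W.map (algebraMap A B))) :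
    Norm N p W := by
  refine h.bind fun B _ _ q _ hqp hPq => ?_
  obtain ⟨D, _, _, r, hr, hD, hrq, C, hC⟩ := hP B q hqp hPq
  refine ⟨D, inferInstance, inferInstance, r, hr, hD, hrq, fun {_} {_} => ⟨C, ?_⟩⟩
  rwa [WeierstrassCurve.map_map, ← IsScalarTower.algebraMap_eq] at hC

theorem mem_iff {B : Type u} [CommRing B] [Algebra A B] {p : Ideal A} {q : Ideal B}
    (h : q.comap (algebraMap A B) = p) (a : A) : algebraMap A B a ∈ q ↔ a ∈ p := by
  rw [← h]; rfl

theorem notMem_of_isUnit {p : Ideal A} [p.IsPrime] {a : A} (h : IsUnit a) : a ∉ p := fun ha =>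
  Ideal.IsPrime.ne_top inferInstance (p.eq_top_of_isUnit_mem ha h)

theorem exists_point (p : Ideal A) [p.IsPrime] :
    ∃ (K : Type u) (_ : Field K) (_ : IsAlgClosed K) (φ : A →+* K), RingHom.ker φ = p :=
  ⟨AlgebraicClosure p.ResidueField, inferInstance, inferInstance,
    (algebraMap p.ResidueField _).comp (algebraMap A p.ResidueField), by
    rw [RingHom.ker_comp_of_injective _ (algebraMap p.ResidueField _).injective, Ideal.ker_algebraMap_residueField]⟩

theorem norm2 {p : Ideal A} [p.IsPrime] (h2 : (2 : A) ∈ p) {W : WeierstrassCurve A} (h4 : IsUnit W.c₄) :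
    Norm N2 p W := by
  have ha : W.a₁ ∉ p := fun ha => notMem_of_isUnit (p := p) h4 (by
    have : W.c₄ = W.a₁ * (W.a₁ * W.b₂ + 4 * W.a₁ * W.a₂) + 2 * (8 * W.a₂ ^ 2 - 12 * W.b₄) := by
      simp only [c₄, b₂]; ring
    rw [this]
    exact p.add_mem (p.mul_mem_right _ ha) (p.mul_mem_right _ h2))
  refine Norm.ext (nbhd_away ha) fun B _ _ q _ hqp hu => ?_
  have h2' : (2 : B) ∈ q := by
    have := (mem_iff hqp 2).mpr h2
    rwa [map_ofNat] at this
  set V := W.map (algebraMap A B)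
  obtain ⟨u, hu'⟩ : IsUnit V.a₁ := hu
  -- `a₁ = 1`, `a₃ = 0`
  apply Norm.change ⟨u, 0, 0, 0⟩
  set V₁ := (⟨u, 0, 0, 0⟩ : VariableChange B) • V with hV₁
  have e1 : V₁.a₁ = 1 := by
    rw [hV₁, variableChange_a₁, mul_zero, add_zero, ← hu', Units.inv_mul]
  apply Norm.change ⟨1, -V₁.a₃, 0, 0⟩
  set V₂ := (⟨1, -V₁.a₃, 0, 0⟩ : VariableChange B) • V₁ with hV₂
  have e1' : V₂.a₁ = 1 := by simp [hV₂, variableChange_def, e1]
  have e3 : V₂.a₃ = 0 := by simp [hV₂, variableChange_def, e1]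
  clear_value V₁ V₂
  -- `a₄ = 0`
  obtain ⟨K, _, _, φ, hφ⟩ := exists_point q
  have k2 : (2 : K) = 0 := by
    have : φ 2 = 0 := RingHom.mem_ker.mp (hφ.symm ▸ h2')
    rwa [map_ofNat] at this
  refine Norm.ext (nbhd_root (f := X ^ 2 - C (1 + 4 * V₂.a₂) * X + C (12 * V₂.a₄)) (h := X)
    (by monicity!) φ hφ 1 ?_ ?_ (by simp)) fun D _ _ r _ hr hz => ?_
  · simp [map_ofNat]
    linear_combination (6 * φ V₂.a₄ - 2 * φ V₂.a₂) * k2
  · simp [map_ofNat]
    intro h
    exact one_ne_zero (α := K) (by linear_combination h + (2 * φ V₂.a₂) * k2)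
  obtain ⟨z, hz0, -, hzu⟩ := hz
  rw [aeval_X] at hzu
  obtain ⟨z, rfl⟩ := hzu
  simp [map_ofNat] at hz0
  set V' := V₂.map (algebraMap B D)
  let t : D := V'.a₄ * (z⁻¹ : Dˣ)
  apply Norm.change ⟨1, -2 * t, 0, t⟩
  set V₃ := (⟨1, -2 * t, 0, t⟩ : VariableChange D) • V' with hV₃
  have f1 : V'.a₁ = 1 := by simp [V', e1']
  have f3 : V'.a₃ = 0 := by simp [V', e3]
  have g1 : V₃.a₁ = 1 := by simp [hV₃, variableChange_def, f1]
  have g3 : V₃.a₃ = 0 := by simp [hV₃, variableChange_def, f1, f3]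
  have g4 : V₃.a₄ = 0 := by
    simp only [hV₃, variableChange_a₄, f1, f3, inv_one, Units.val_one]
    have e2 : algebraMap B D V₂.a₂ = V'.a₂ := rfl
    have e4 : algebraMap B D V₂.a₄ = V'.a₄ := rfl
    rw [e2, e4] at hz0
    linear_combination (norm := (simp only [t]; ring)) (V'.a₄ * ((z⁻¹ : Dˣ) : D) ^ 2) * hz0 +
      (-V'.a₄ - V'.a₄ * (z : D) * ((z⁻¹ : Dˣ) : D) + (1 + 4 * V'.a₂) * V'.a₄ * ((z⁻¹ : Dˣ) : D)) * z.mul_inv
  clear_value V₃
  -- `a₂ = 0`
  obtain ⟨L, _, _, ψ, hψ⟩ := exists_point r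
  have l2 : (2 : L) = 0 := by
    have : ψ 2 = 0 := RingHom.mem_ker.mp (hψ.symm ▸ (by
      have := (mem_iff hr 2).mpr h2'
      rwa [map_ofNat] at this))
    rwa [map_ofNat] at this
  obtain ⟨x, hx⟩ := IsAlgClosed.exists_root (X ^ 2 + X - Polynomial.C (ψ V₃.a₂))
    (by rw [show (X ^ 2 + X - Polynomial.C (ψ V₃.a₂) : L[X]) = X ^ 2 + X + Polynomial.C (-ψ V₃.a₂) by simp [sub_eq_add_neg]]
        rw [show (X ^ 2 + X + Polynomial.C (-ψ V₃.a₂) : L[X]).degree = 2 by compute_degree!]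
        decide)
  simp at hx
  refine Norm.ext (nbhd_root (f := X ^ 2 + X - Polynomial.C V₃.a₂) (h := 1) (by monicity!) ψ hψ x ?_ ?_
    (by simp)) fun E _ _ s _ hs hw => ?_
  · simpa using hx
  · simp
    intro h
    exact one_ne_zero (α := L) (by linear_combination h - x * l2)
  obtain ⟨w, hw0, hwu, -⟩ := hw
  simp [map_ofNat] at hw0 hwu
  obtain ⟨v, hv⟩ := hwu
  refine Norm.of_nf ⟨v, 0, w, 0⟩ ⟨?_, ?_, ?_, ?_⟩
  · simp only [variableChange_a₁, map_a₁, g1, map_one]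
    rw [show (1 : E) + 2 * w = v by rw [hv]; ring, Units.inv_mul]
  · simp only [variableChange_a₂, map_a₁, map_a₂, g1, map_one]
    linear_combination (-((v⁻¹ : Eˣ) : E) ^ 2) * hw0
  · simp [variableChange_def, g3]
  · simp [variableChange_def, g3, g4]

theorem norm3 {p : Ideal A} [p.IsPrime] (h2 : (2 : A) ∉ p) (h3 : (3 : A) ∈ p) {W : WeierstrassCurve A}
    (h4 : IsUnit W.c₄) : Norm N3 p W := by
  refine Norm.ext (nbhd_away h2) fun B _ _ q _ hqp hu => ?_
  rw [map_ofNat] at hu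
  have h3' : (3 : B) ∈ q := by
    have := (mem_iff hqp 3).mpr h3
    rwa [map_ofNat] at this
  set V := W.map (algebraMap A B)
  have h4' : IsUnit V.c₄ := by rw [map_c₄]; exact h4.map _
  obtain ⟨i, hi⟩ := hu.exists_right_inv
  apply Norm.change ⟨1, 0, -(i * V.a₁), -(i * V.a₃)⟩
  set V₁ := (⟨1, 0, -(i * V.a₁), -(i * V.a₃)⟩ : VariableChange B) • V with hV₁
  have e1 : V₁.a₁ = 0 := by
    simp only [hV₁, variableChange_a₁, inv_one, Units.val_one]
    linear_combination -V.a₁ * hi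
  have e3 : V₁.a₃ = 0 := by
    simp only [hV₁, variableChange_a₃, inv_one, Units.val_one]
    linear_combination -V.a₃ * hi
  have hc : IsUnit V₁.c₄ := by
    rw [hV₁, variableChange_c₄]; simpa using h4'
  clear_value V₁
  have ha : V₁.a₂ ∉ q := fun ha => notMem_of_isUnit (p := q) hc (by
    have : V₁.c₄ = V₁.a₂ * (16 * V₁.a₂) + 3 * (-16 * V₁.a₄) := by
      simp only [c₄, b₂, b₄, e1, e3]; ring
    rw [this]
    exact q.add_mem (q.mul_mem_right _ ha) (q.mul_mem_right _ h3'))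
  -- `a₄ = 0`
  obtain ⟨K, _, _, φ, hφ⟩ := exists_point q
  have k3 : (3 : K) = 0 := by
    have : φ 3 = 0 := RingHom.mem_ker.mp (hφ.symm ▸ h3')
    rwa [map_ofNat] at this
  have k2 : (2 : K) ≠ 0 := fun h => one_ne_zero (α := K) (by linear_combination k3 - h)
  have ka : φ V₁.a₂ ≠ 0 := fun h => ha (hφ ▸ RingHom.mem_ker.mpr h)
  refine Norm.ext (nbhd_root (f := X ^ 2 + C (2 * V₁.a₂) * X + C (3 * V₁.a₄)) (h := X)
    (by monicity!) φ hφ (-2 * φ V₁.a₂) ?_ ?_ (by simp [k2, ka])) fun D _ _ r _ hr hz => ?_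
  · simp [map_ofNat, k3]
    ring
  · simp [map_ofNat]
    intro h
    exact mul_ne_zero k2 ka (by linear_combination -h)
  obtain ⟨z, hz0, -, hzu⟩ := hz
  rw [aeval_X] at hzu
  obtain ⟨z, rfl⟩ := hzu
  simp [map_ofNat] at hz0
  set V' := V₁.map (algebraMap B D)
  have e2 : algebraMap B D V₁.a₂ = V'.a₂ := rfl
  have e4 : algebraMap B D V₁.a₄ = V'.a₄ := rfl
  rw [e2, e4] at hz0
  let t : D := V'.a₄ * (z⁻¹ : Dˣ)
  apply Norm.change ⟨1, t, 0, 0⟩
  set V₂ := (⟨1, t, 0, 0⟩ : VariableChange D) • V' with hV₂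
  have g1 : V₂.a₁ = 0 := by simp [hV₂, variableChange_def, V', e1]
  have g3 : V₂.a₃ = 0 := by simp [hV₂, variableChange_def, V', e1, e3]
  have g4 : V₂.a₄ = 0 := by
    simp only [hV₂, variableChange_a₄, inv_one, Units.val_one]
    rw [show V'.a₁ = 0 by simp [V', e1], show V'.a₃ = 0 by simp [V', e3]]
    linear_combination (norm := (simp only [t]; ring)) (V'.a₄ * ((z⁻¹ : Dˣ) : D) ^ 2) * hz0 +
      (-V'.a₄ - V'.a₄ * (z : D) * ((z⁻¹ : Dˣ) : D) - 2 * V'.a₂ * V'.a₄ * ((z⁻¹ : Dˣ) : D)) * z.mul_inv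
  have hc' : IsUnit V₂.c₄ := by
    rw [hV₂, variableChange_c₄, map_c₄]; simpa using hc.map (algebraMap B D)
  clear_value V₂
  have ha' : IsUnit V₂.a₂ := by
    have : V₂.c₄ = 16 * V₂.a₂ * V₂.a₂ := by simp only [c₄, b₂, b₄, g1, g3, g4]; ring
    rw [this] at hc'
    exact (IsUnit.mul_iff.mp hc').2
  -- `a₂ = 1`
  obtain ⟨L, _, _, ψ, hψ⟩ := exists_point r
  have la : ψ V₂.a₂ ≠ 0 := (ha'.map ψ).ne_zero
  have l2 : (2 : L) ≠ 0 := fun h => by
    have h' : (2 : D) ∈ r := hψ ▸ RingHom.mem_ker.mpr (by rw [map_ofNat]; exact h)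
    have hu2 : IsUnit (2 : D) := by
      have := (IsUnit.of_mul_eq_one i hi).map (algebraMap B D)
      rwa [map_ofNat] at this
    exact notMem_of_isUnit hu2 h'
  obtain ⟨x, hx⟩ := IsAlgClosed.exists_eq_mul_self (ψ V₂.a₂)
  have hx0 : x ≠ 0 := fun h => la (by rw [hx, h, mul_zero])
  refine Norm.ext (nbhd_root (f := X ^ 2 - Polynomial.C V₂.a₂) (h := X) (by monicity!) ψ hψ x ?_ ?_
    (by simpa using hx0)) fun E _ _ s _ hs hw => ?_
  · simp [hx]; ring
  · simp [l2, hx0, one_add_one_eq_two, map_ofNat]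
  obtain ⟨w, hw0, -, hwu⟩ := hw
  rw [aeval_X] at hwu
  obtain ⟨w, rfl⟩ := hwu
  simp at hw0
  refine Norm.of_nf ⟨w, 0, 0, 0⟩ ⟨?_, ?_, ?_, ?_⟩
  · simp [variableChange_def, g1]
  · simp only [variableChange_a₂, map_a₁, map_a₂, g1, map_zero]
    linear_combination (-((w⁻¹ : Eˣ) : E) ^ 2) * hw0 + ((w : E) * ((w⁻¹ : Eˣ) : E) + 1) * w.mul_inv
  · simp [variableChange_def, g3, g1]
  · simp [variableChange_def, g4, g3]

theorem norm0 {p : Ideal A} [p.IsPrime] (h2 : (2 : A) ∉ p) (h3 : (3 : A) ∉ p) {W : WeierstrassCurve A}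
    (h4 : IsUnit W.c₄) (h6 : IsUnit W.c₆) : Norm N0 p W := by
  have h6' : (6 : A) ∉ p := fun h =>
    ((Ideal.IsPrime.mem_or_mem inferInstance (show (2 : A) * 3 ∈ p by norm_num; exact h))).elim h2 h3
  refine Norm.ext (nbhd_away h6') fun B _ _ q _ hqp hu => ?_
  rw [map_ofNat, show (6 : B) = 2 * 3 by norm_num, IsUnit.mul_iff] at hu
  set V := W.map (algebraMap A B)
  obtain ⟨i, hi⟩ := hu.1.exists_right_inv
  obtain ⟨j, hj⟩ := hu.2.exists_right_inv
  apply Norm.change ⟨1, 0, -(i * V.a₁), -(i * V.a₃)⟩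
  set V₁ := (⟨1, 0, -(i * V.a₁), -(i * V.a₃)⟩ : VariableChange B) • V with hV₁
  have e1 : V₁.a₁ = 0 := by
    simp only [hV₁, variableChange_a₁, inv_one, Units.val_one]
    linear_combination -V.a₁ * hi
  have e3 : V₁.a₃ = 0 := by
    simp only [hV₁, variableChange_a₃, inv_one, Units.val_one]
    linear_combination -V.a₃ * hi
  apply Norm.change ⟨1, -(j * V₁.a₂), 0, 0⟩
  set V₂ := (⟨1, -(j * V₁.a₂), 0, 0⟩ : VariableChange B) • V₁ with hV₂
  have g1 : V₂.a₁ = 0 := by simp [hV₂, variableChange_def, e1]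
  have g2 : V₂.a₂ = 0 := by
    simp only [hV₂, variableChange_a₂, inv_one, Units.val_one]
    linear_combination -V₁.a₂ * hj
  have g3 : V₂.a₃ = 0 := by simp [hV₂, variableChange_def, e1, e3]
  have hc4 : IsUnit V₂.c₄ := by
    rw [hV₂, variableChange_c₄, hV₁, variableChange_c₄, map_c₄]; simpa using h4.map (algebraMap A B)
  have hc6 : IsUnit V₂.c₆ := by
    rw [hV₂, variableChange_c₆, hV₁, variableChange_c₆, map_c₆]; simpa using h6.map (algebraMap A B)
  clear_value V₂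
  have ha4 : IsUnit V₂.a₄ := by
    rw [show V₂.c₄ = -48 * V₂.a₄ by simp only [c₄, b₂, b₄, g1, g2, g3]; ring, IsUnit.mul_iff] at hc4
    exact hc4.2
  have ha6 : IsUnit V₂.a₆ := by
    rw [show V₂.c₆ = -864 * V₂.a₆ by simp only [c₆, b₂, b₄, b₆, g1, g2, g3]; ring, IsUnit.mul_iff] at hc6
    exact hc6.2
  obtain ⟨a, ha⟩ := ha4
  obtain ⟨L, _, _, ψ, hψ⟩ := exists_point q
  let c : B := V₂.a₆ * (a⁻¹ : Bˣ)
  have hcu : IsUnit c := ha6.mul a⁻¹.isUnit
  have l2 : (2 : L) ≠ 0 := fun h => by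
    exact notMem_of_isUnit hu.1 (hψ ▸ RingHom.mem_ker.mpr (by rw [map_ofNat]; exact h) : (2 : B) ∈ q)
  obtain ⟨x, hx⟩ := IsAlgClosed.exists_eq_mul_self (ψ c)
  have hx0 : x ≠ 0 := fun h => (hcu.map ψ).ne_zero (by rw [hx, h, mul_zero])
  refine Norm.ext (nbhd_root (f := X ^ 2 - Polynomial.C c) (h := X) (by monicity!) ψ hψ x ?_ ?_
    (by simpa using hx0)) fun E _ _ s _ hs hw => ?_
  · simp [hx]; ring
  · simp [l2, hx0, one_add_one_eq_two, map_ofNat]
  obtain ⟨w, hw0, -, hwu⟩ := hw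
  rw [aeval_X] at hwu
  obtain ⟨w, rfl⟩ := hwu
  simp [c] at hw0
  have haE : algebraMap B E (a : B) * algebraMap B E ((a⁻¹ : Bˣ) : B) = 1 := by
    rw [← map_mul, Units.mul_inv, map_one]
  refine Norm.of_nf ⟨w, 0, 0, 0⟩ ⟨?_, ?_, ?_, ?_⟩
  · simp [variableChange_def, g1]
  · simp [variableChange_def, g1, g2]
  · simp [variableChange_def, g3, g1]
  · simp only [variableChange_a₄, variableChange_a₆, map_a₁, map_a₂, map_a₃, map_a₄, map_a₆, g1, g2, g3,
      map_zero, ← ha]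
    linear_combination (algebraMap B E (a : B) * ((w⁻¹ : Eˣ) : E) ^ 6) * hw0 +
      (algebraMap B E V₂.a₆ * ((w⁻¹ : Eˣ) : E) ^ 6) * haE -
      algebraMap B E (a : B) * ((w⁻¹ : Eˣ) : E) ^ 4 * ((w : E) * ((w⁻¹ : Eˣ) : E) + 1) * w.mul_inv

/-- Isomorphic on a neighbourhood. -/
def Iso (p : Ideal A) (W W' : WeierstrassCurve A) : Prop :=
  Nbhd p (fun B _ _ _ => ∃ C : VariableChange B, C • W.map (algebraMap A B) = W'.map (algebraMap A B))

theorem main {p : Ideal A} [p.IsPrime] (W W' : WeierstrassCurve A) (h : W.c₄ ^ 3 * W'.Δ = W'.c₄ ^ 3 * W.Δ)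
    (h4 : IsUnit W.c₄) (h4' : IsUnit W'.c₄) (h6 : IsUnit W.c₆) (h6' : IsUnit W'.c₆) : Iso p W W' := by
  -- reduce to two curves in the same normal form
  have reduce : ∀ (N : ∀ {B : Type u} [CommRing B], WeierstrassCurve B → Prop),
      (∀ {B D : Type u} [CommRing B] [CommRing D] (f : B →+* D) {V : WeierstrassCurve B}, N V → N (V.map f)) →
      Norm N p W →
      (∀ (B : Type u) [CommRing B] [Algebra A B] (q : Ideal B) [q.IsPrime], q.comap (algebraMap A B) = p →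
        Norm N q (W'.map (algebraMap A B))) →
      (∀ (B : Type u) [CommRing B] [Algebra A B] (q : Ideal B) [q.IsPrime], q.comap (algebraMap A B) = p →
        ∀ V V' : WeierstrassCurve B, N V → N V' → IsUnit V.c₄ → IsUnit V'.c₄ → IsUnit V.c₆ → IsUnit V'.c₆ →
          V.c₄ ^ 3 * V'.Δ = V'.c₄ ^ 3 * V.Δ → Iso q V V') →
      Iso p W W' := by
    intro N hmap hW hW' hfin
    refine hW.bind fun B _ _ q _ hqp hC => ?_
    obtain ⟨C, hC⟩ := hC
    refine (hW' B q hqp).bind fun D _ _ r _ hrq hC' => ?_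
    obtain ⟨C', hC'⟩ := hC'
    letI : Algebra A D := ((algebraMap B D).comp (algebraMap A B)).toAlgebra
    haveI : IsScalarTower A B D := IsScalarTower.of_algebraMap_eq fun _ => rfl
    have hrp : r.comap (algebraMap A D) = p := by
      rw [IsScalarTower.algebraMap_eq A B D, ← Ideal.comap_comap, hrq, hqp]
    set V := (C • W.map (algebraMap A B)).map (algebraMap B D) with hV
    set V' := C' • (W'.map (algebraMap A B)).map (algebraMap B D) with hV'
    have hV0 : V = (C.map (algebraMap B D)) • W.map (algebraMap A D) := by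
      rw [hV, ← map_variableChange, WeierstrassCurve.map_map, ← IsScalarTower.algebraMap_eq]
    have hV0' : V' = C' • W'.map (algebraMap A D) := by
      rw [hV', WeierstrassCurve.map_map, ← IsScalarTower.algebraMap_eq]
    have hrel : V.c₄ ^ 3 * V'.Δ = V'.c₄ ^ 3 * V.Δ := by
      rw [hV0, hV0']
      simp only [variableChange_c₄, variableChange_Δ, map_c₄, map_Δ]
      have := congrArg (algebraMap A D) h
      simp only [map_mul, map_pow] at this
      linear_combination (((C.map (algebraMap B D)).u⁻¹ : Dˣ) : D) ^ 12 * ((C'.u⁻¹ : Dˣ) : D) ^ 12 * this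
    obtain ⟨E, _, _, s, hs, hE, hsr, G, hG⟩ := hfin D r hrp V V' (hmap _ hC) hC'
      (by rw [hV0, variableChange_c₄, map_c₄]; exact ((Units.isUnit _).pow 4).mul (h4.map _))
      (by rw [hV0', variableChange_c₄, map_c₄]; exact ((Units.isUnit _).pow 4).mul (h4'.map _))
      (by rw [hV0, variableChange_c₆, map_c₆]; exact ((Units.isUnit _).pow 6).mul (h6.map _))
      (by rw [hV0', variableChange_c₆, map_c₆]; exact ((Units.isUnit _).pow 6).mul (h6'.map _)) hrel
    refine ⟨E, inferInstance, inferInstance, s, hs, hE, hsr, fun {_} {_} {_} {_} => ?_⟩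
    refine ⟨(C'.map (algebraMap D E))⁻¹ * G * (C.map (algebraMap B D)).map (algebraMap D E), ?_⟩
    rw [hV0, hV0', ← map_variableChange, ← map_variableChange] at hG
    rw [WeierstrassCurve.map_map, WeierstrassCurve.map_map] at hG
    rw [mul_smul, mul_smul]
    have e : algebraMap A E = (algebraMap D E).comp (algebraMap A D) := by
      rw [IsScalarTower.algebraMap_eq A B E, IsScalarTower.algebraMap_eq B D E, IsScalarTower.algebraMap_eq A B D,
        RingHom.comp_assoc]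
    rw [e, hG, inv_smul_smul]
  by_cases h2 : (2 : A) ∈ p
  · refine reduce @N2 (fun f V hV => ⟨by simp [hV.1], by simp [hV.2.1], by simp [hV.2.2.1], by simp [hV.2.2.2]⟩)
      (norm2 h2 h4) (fun B _ _ q _ hqp => norm2 (by
        have := (mem_iff hqp 2).mpr h2
        rwa [map_ofNat] at this) (by rw [map_c₄]; exact h4'.map _)) ?_
    intro B _ _ q _ hqp V V' ⟨a1, a2, a3, a4⟩ ⟨b1, b2', b3, b4'⟩ _ _ _ _ hrel
    have h2' : (2 : B) ∈ q := by
      have := (mem_iff hqp 2).mpr h2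
      rwa [map_ofNat] at this
    have hg : 1 + 432 * (V.a₆ + V'.a₆) ∉ q := fun hg => by
      have : (1 : B) ∈ q := by
        have h' := q.sub_mem hg (q.mul_mem_right (216 * (V.a₆ + V'.a₆)) h2')
        rwa [show (1 : B) + 432 * (V.a₆ + V'.a₆) - 2 * (216 * (V.a₆ + V'.a₆)) = 1 by ring] at h'
      exact Ideal.IsPrime.ne_top inferInstance ((Ideal.eq_top_iff_one q).mpr this)
    simp only [c₄, b₂, b₄, b₆, b₈, Δ, a1, a2, a3, a4, b1, b2', b3, b4'] at hrel
    have key : (1 + 432 * (V.a₆ + V'.a₆)) * (V.a₆ - V'.a₆) = 0 := by linear_combination hrel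
    obtain ⟨D, _, _, r, hr, hD, hrq, hu⟩ := nbhd_away hg
    refine ⟨D, inferInstance, inferInstance, r, hr, hD, hrq, 1, ?_⟩
    have key' := congrArg (algebraMap B D) key
    rw [map_mul, map_zero, hu.mul_right_eq_zero, map_sub, sub_eq_zero] at key'
    rw [one_smul]
    ext <;> simp only [map_a₁, map_a₂, map_a₃, map_a₄, map_a₆, a1, a2, a3, a4, b1, b2', b3, b4', key']
  by_cases h3 : (3 : A) ∈ p
  · refine reduce @N3 (fun f V hV => ⟨by simp [hV.1], by simp [hV.2.1], by simp [hV.2.2.1], by simp [hV.2.2.2]⟩)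
      (norm3 h2 h3 h4) (fun B _ _ q _ hqp => norm3
        (by intro h'; exact h2 ((mem_iff hqp 2).mp (by rwa [map_ofNat])))
        (by
          have := (mem_iff hqp 3).mpr h3
          rwa [map_ofNat] at this) (by rw [map_c₄]; exact h4'.map _)) ?_
    intro B _ _ q _ hqp V V' ⟨a1, a2, a3, a4⟩ ⟨b1, b2', b3, b4'⟩ hu4 _ _ _ hrel
    have h3' : (3 : B) ∈ q := by
      have := (mem_iff hqp 3).mpr h3
      rwa [map_ofNat] at this
    have hg : 4 + 27 * (V.a₆ + V'.a₆) ∉ q := fun hg => by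
      have : (1 : B) ∈ q := by
        have h' := q.sub_mem hg (q.mul_mem_right (1 + 9 * (V.a₆ + V'.a₆)) h3')
        rwa [show (4 : B) + 27 * (V.a₆ + V'.a₆) - 3 * (1 + 9 * (V.a₆ + V'.a₆)) = 1 by ring] at h'
      exact Ideal.IsPrime.ne_top inferInstance ((Ideal.eq_top_iff_one q).mpr this)
    rw [show V.c₄ = 16 by simp only [c₄, b₂, b₄, a1, a2, a3, a4]; ring] at hu4
    simp only [c₄, b₂, b₄, b₆, b₈, Δ, a1, a2, a3, a4, b1, b2', b3, b4'] at hrel
    have key : ((16 : B) ^ 4 * (4 + 27 * (V.a₆ + V'.a₆))) * (V.a₆ - V'.a₆) = 0 := by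
      linear_combination hrel
    rw [mul_assoc, (hu4.pow 4).mul_right_eq_zero] at key
    obtain ⟨D, _, _, r, hr, hD, hrq, hu⟩ := nbhd_away hg
    refine ⟨D, inferInstance, inferInstance, r, hr, hD, hrq, 1, ?_⟩
    have key' := congrArg (algebraMap B D) key
    rw [map_mul, map_zero, hu.mul_right_eq_zero, map_sub, sub_eq_zero] at key'
    rw [one_smul]
    ext <;> simp only [map_a₁, map_a₂, map_a₃, map_a₄, map_a₆, a1, a2, a3, a4, b1, b2', b3, b4', key']
  refine reduce @N0 (fun f V hV => ⟨by simp [hV.1], by simp [hV.2.1], by simp [hV.2.2.1], by simp [hV.2.2.2]⟩)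
    (norm0 h2 h3 h4 h6) (fun B _ _ q _ hqp => norm0
      (by intro h'; exact h2 ((mem_iff hqp 2).mp (by rwa [map_ofNat])))
      (by intro h'; exact h3 ((mem_iff hqp 3).mp (by rwa [map_ofNat])))
      (by rw [map_c₄]; exact h4'.map _) (by rw [map_c₆]; exact h6'.map _)) ?_
  intro B _ _ q _ hqp V V' ⟨a1, a2, a3, a4⟩ ⟨b1, b2', b3, b4'⟩ hu4 hu4' hu6 _ hrel
  rw [show V.c₄ = -48 * V.a₆ by simp only [c₄, b₂, b₄, a1, a2, a3, a4]; ring, IsUnit.mul_iff] at hu4
  rw [show V'.c₄ = -48 * V'.a₆ by simp only [c₄, b₂, b₄, b1, b2', b3, b4']; ring, IsUnit.mul_iff] at hu4'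
  rw [show V.c₆ = -864 * V.a₆ by simp only [c₆, b₂, b₄, b₆, a1, a2, a3]; ring, IsUnit.mul_iff] at hu6
  have h432 : IsUnit (432 : B) := by
    have h864 : IsUnit ((2 : B) * 432) := by
      rw [show (2 : B) * 432 = -(-864) by norm_num]; exact hu6.1.neg
    exact (IsUnit.mul_iff.mp h864).2
  simp only [c₄, b₂, b₄, b₆, b₈, Δ, a1, a2, a3, a4, b1, b2', b3, b4'] at hrel
  have key : (((-48 : B) ^ 3 * (-432)) * (V.a₆ ^ 2 * V'.a₆ ^ 2)) * (V'.a₆ - V.a₆) * (-1) = 0 := by
    linear_combination hrel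
  have hu : IsUnit (((-48 : B) ^ 3 * (-432)) * (V.a₆ ^ 2 * V'.a₆ ^ 2)) :=
    ((hu4.1.pow 3).mul h432.neg).mul ((hu4.2.pow 2).mul (hu4'.2.pow 2))
  rw [mul_neg_one, neg_eq_zero, hu.mul_right_eq_zero, sub_eq_zero] at key
  refine Nbhd.pure ⟨1, ?_⟩
  rw [one_smul]
  ext <;> simp only [map_a₁, map_a₂, map_a₃, map_a₄, map_a₆, a1, a2, a3, a4, b1, b2', b3, b4', key]

end WeierIsom
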